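import Cfsg.Agent.Lib.Helper44.FW.Defs

/-!
# Project FW (S3211): package [SWAP]
-/

set_option autoImplicit false

namespace Cfsg.Agent.Lib.Helper68.FW

open Cfsg.Agent.Lib.Helper44.FW

universe u

theorem pkgSwap : PkgSwap.{u} := by
  intro G _ j t₀ hj hH ht₀C ht₀2 ht₀1 ht₀j hex
  obtain ⟨g, hgne, hgcomm⟩ := hex
  have hj2 : j ^ 2 = 1 := by rw [← hj]; exact pow_orderOf_eq_one j
  have hj1 : j ≠ 1 := by
    intro h; rw [h, orderOf_one] at hj; norm_num at hj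
  have memC : ∀ x : G, x ∈ Subgroup.centralizer ({j} : Set G) ↔ x * j = j * x := by
    intro x
    rw [Subgroup.mem_centralizer_iff]
    constructor
    · intro h; exact (h j (Set.mem_singleton j)).symm
    · intro h y hy
      rw [Set.mem_singleton_iff] at hy
      rw [hy]; exact h.symm
  have htC : g * j * g⁻¹ ∈ Subgroup.centralizer ({j} : Set G) := (memC _).2 hgcomm
  have ht2 : (g * j * g⁻¹) ^ 2 = 1 := by
    rw [conj_pow, hj2]; group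
  have ht1 : g * j * g⁻¹ ≠ 1 := by
    intro h; exact hj1 (conj_eq_one_iff.1 h)
  obtain ⟨c, hcC, hc⟩ := hH _ htC ht2 ht1 hgne t₀ ht₀C ht₀2 ht₀1 ht₀j
  have hg₁ : (c * g) * j * (c * g)⁻¹ = t₀ := by
    rw [← hc]; group
  generalize c * g = g₁ at hg₁
  have hcomm : (g₁ * j * g₁⁻¹) * j = j * (g₁ * j * g₁⁻¹) := by
    rw [hg₁]; exact (memC t₀).1 ht₀C
  have haC : (g₁⁻¹ * j * g₁) * j = j * (g₁⁻¹ * j * g₁) := by
    calc (g₁⁻¹ * j * g₁) * j = g₁⁻¹ * (j * (g₁ * j * g₁⁻¹)) * g₁ := by group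
      _ = g₁⁻¹ * ((g₁ * j * g₁⁻¹) * j) * g₁ := by rw [hcomm]
      _ = j * (g₁⁻¹ * j * g₁) := by group
  have ha2 : (g₁⁻¹ * j * g₁) ^ 2 = 1 := by
    calc (g₁⁻¹ * j * g₁) ^ 2 = g₁⁻¹ * (j * j) * g₁ := by rw [pow_two]; group
      _ = 1 := by rw [← pow_two, hj2]; group
  have ha1 : g₁⁻¹ * j * g₁ ≠ 1 := by
    intro h
    apply hj1
    calc j = g₁ * (g₁⁻¹ * j * g₁) * g₁⁻¹ := by group
      _ = 1 := by rw [h]; group
  have haj : g₁⁻¹ * j * g₁ ≠ j := by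
    intro h
    apply ht₀j
    rw [← hg₁]
    calc g₁ * j * g₁⁻¹ = g₁ * (g₁⁻¹ * j * g₁) * g₁⁻¹ := by rw [h]
      _ = j := by group
  obtain ⟨c', hc'C, hc'⟩ := hH t₀ ht₀C ht₀2 ht₀1 ht₀j _ ((memC _).2 haC) ha2 ha1 haj
  have hcj : c' * j * c'⁻¹ = j := by
    rw [(memC c').1 hc'C]; group
  refine ⟨g₁ * c', ?_, ?_⟩
  · calc g₁ * c' * j * (g₁ * c')⁻¹ = g₁ * (c' * j * c'⁻¹) * g₁⁻¹ := by group
      _ = g₁ * j * g₁⁻¹ := by rw [hcj]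
      _ = t₀ := hg₁
  · calc g₁ * c' * t₀ * (g₁ * c')⁻¹ = g₁ * (c' * t₀ * c'⁻¹) * g₁⁻¹ := by group
      _ = g₁ * (g₁⁻¹ * j * g₁) * g₁⁻¹ := by rw [hc']
      _ = j := by group

end Cfsg.Agent.Lib.Helper68.FW
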